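import Cfsg.Agent.H95.PQ.NT

/-!
# S4981 [C1]: multiplicities of the restriction to a cyclic group (helper95)
-/

set_option autoImplicit false

universe u v

namespace Cfsg.Agent.H95.PQ

open Cfsg Finset Cfsg.Agent.H54.PQ

/-- every `n`-th root of unity is a value of the standard character -/
theorem exists_std {n : ℕ} [NeZero n] {z : ℂ} (hz : z ^ n = 1) : ∃ j : ZMod n, z = ZMod.stdAddChar j := by
  have h1 := Complex.isPrimitiveRoot_exp n (NeZero.ne n)
  obtain ⟨i, -, hi⟩ := h1.eq_pow_of_pow_eq_one hz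
  refine ⟨((i : ℤ) : ZMod n), ?_⟩
  rw [ZMod.stdAddChar_coe, ← hi, ← Complex.exp_nat_mul]
  congr 1
  push_cast
  ring

/-- multiplicities -/
theorem exists_mult {G : Type u} [Group G] {χ : G → ℂ} (hχ : IsCharacter G χ) (y : G) {n : ℕ} [NeZero n]
    (hy : y ^ n = 1) : ∃ m : ZMod n → ℤ, ∀ k : ℕ, χ (y ^ k) = ∑ j, (m j : ℂ) * ZMod.stdAddChar (j * (k : ZMod n)) := by
  classical
  obtain ⟨d, μ, -, h1, h2⟩ := Cfsg.Agent.Characters.GaloisBasic.isCharacter_exists_fin_pow hχ y (NeZero.ne n) hy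
  choose J hJ using fun i => exists_std (h1 i)
  refine ⟨fun j => ((univ.filter fun i => J i = j).card : ℤ), fun k => ?_⟩
  rw [h2 k, ← Finset.sum_fiberwise (s := univ) (g := J)]
  refine Finset.sum_congr rfl fun j _ => ?_
  rw [Finset.sum_congr rfl (g := fun _ => (ZMod.stdAddChar (j * (k : ZMod n)) : ℂ))]
  · rw [Finset.sum_const, nsmul_eq_mul]
    simp
  · intro i hi
    rw [Finset.mem_filter] at hi
    rw [hJ i, hi.2, ← AddChar.map_nsmul_eq_pow, nsmul_eq_mul, mul_comm]

/-- uniqueness of the multiplicities -/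
theorem mult_unique {n : ℕ} [NeZero n] {m m' : ZMod n → ℤ}
    (h : ∀ k : ZMod n, ∑ j, (m j : ℂ) * ZMod.stdAddChar (j * k) = ∑ j, (m' j : ℂ) * ZMod.stdAddChar (j * k)) :
    m = m' := by
  classical
  have key : ∀ (f : ZMod n → ℤ) (i : ZMod n), ∑ k, (∑ j, (f j : ℂ) * ZMod.stdAddChar (j * k)) * ZMod.stdAddChar (-i * k) =
      (n : ℂ) * f i := by
    intro f i
    simp only [Finset.sum_mul]
    rw [Finset.sum_comm]
    have h1 : ∀ j, ∑ k, (f j : ℂ) * ZMod.stdAddChar (j * k) * ZMod.stdAddChar (-i * k) =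
        (f j : ℂ) * (if j - i = 0 then (n : ℂ) else 0) := by
      intro j
      have h2 := AddChar.sum_mulShift (j - i) (ZMod.isPrimitive_stdAddChar n)
      rw [ZMod.card] at h2
      have h3 : (if j - i = 0 then (n : ℂ) else 0) = ∑ x, ZMod.stdAddChar (x * (j - i)) := by
        rw [h2]; split_ifs <;> simp
      rw [h3, Finset.mul_sum]
      refine Finset.sum_congr rfl fun k _ => ?_
      rw [mul_assoc, ← AddChar.map_add_eq_mul]
      congr 2
      ring
    rw [Finset.sum_congr rfl fun j _ => h1 j]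
    simp only [sub_eq_zero]
    simp [mul_comm]
  funext i
  have h1 : (n : ℂ) * (m i : ℂ) = (n : ℂ) * (m' i : ℂ) := by
    rw [← key m i, ← key m' i]
    refine Finset.sum_congr rfl fun k _ => ?_
    rw [h k]
  have h2 := mul_left_cancel₀ (by exact_mod_cast NeZero.ne n : (n : ℂ) ≠ 0) h1
  exact_mod_cast h2

section group

variable {p : ℕ} [hp : Fact p.Prime] {S : Type u} [Group S] [Finite S]

omit [Finite S] in
theorem isConj_iterate {a : MulAut S} {y : S} {k : ℕ} (h : IsConj (a y) (y ^ k)) (l : ℕ) :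
    IsConj ((a ^ l) y) (y ^ (k ^ l)) := by
  induction l with
  | zero => rw [pow_zero, pow_zero, pow_one]; exact IsConj.refl _
  | succ l ih =>
      have h1 : (a ^ (l + 1)) y = a ((a ^ l) y) := by rw [pow_succ']; rfl
      have h2 : IsConj (a ((a ^ l) y)) (a (y ^ (k ^ l))) := (a : S →* S).map_isConj ih
      rw [h1]
      refine h2.trans ?_
      rw [map_pow, pow_succ', pow_mul]
      obtain ⟨c, hc⟩ := isConj_iff.1 h
      rw [isConj_iff]
      exact ⟨c, by rw [← conj_pow, hc]⟩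

/-- Lemma K: the exponent can be chosen of `p`-power order -/
theorem exists_kappa {A : Subgroup (MulAut S)} (hA : IsPGroup p A) {y : S} {e : ℕ} (hy : orderOf y = p ^ (e + 1))
    (hpow : PowA A y) {a : MulAut S} (ha : a ∈ A) :
    ∃ κ : (ZMod (p ^ (e + 1)))ˣ, (∃ m : ℕ, κ ^ p ^ m = 1) ∧ IsConj (a y) (y ^ (κ : ZMod (p ^ (e + 1))).val) := by
  obtain ⟨k, hk⟩ := hpow a ha
  have hcop : Nat.Coprime k (p ^ (e + 1)) := by
    have h1 : orderOf (a y) = orderOf y := orderOf_injective (a : S →* S) a.injective y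
    obtain ⟨c, hc⟩ := isConj_iff.1 hk
    have h2 : orderOf (y ^ k) = orderOf y := by
      rw [← hc, ← h1]
      exact orderOf_injective (MulAut.conj c : S →* S) (MulAut.conj c).injective (a y)
    rw [orderOf_pow, hy, Nat.div_eq_self] at h2
    have h7 : Nat.gcd (p ^ (e + 1)) k = 1 := h2.resolve_left (pow_pos hp.out.pos _).ne'
    rw [Nat.gcd_comm] at h7
    exact h7
  obtain ⟨m, hm⟩ := hA ⟨a, ha⟩
  have hm' : a ^ p ^ m = 1 := by
    have := congrArg Subtype.val hm
    simpa using this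
  have hcp : Nat.Coprime (p ^ m) (p - 1) := by
    apply Nat.Coprime.pow_left
    have h1 : p - 1 + 1 = p := Nat.sub_add_cancel hp.out.one_lt.le
    rw [Nat.coprime_comm]
    nth_rewrite 2 [← h1]
    exact (Nat.coprime_self_add_right).2 (Nat.coprime_one_right _)
  obtain ⟨s, hs1, hs2⟩ := Nat.chineseRemainder hcp 1 0
  have has : a ^ s = a := by
    conv_rhs => rw [← pow_one a]
    rw [pow_eq_pow_iff_modEq]
    exact hs1.of_dvd (orderOf_dvd_of_pow_eq_one hm')
  have hds : p - 1 ∣ s := (Nat.modEq_zero_iff_dvd).1 hs2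
  refine ⟨ZMod.unitOfCoprime k hcop ^ s, ⟨e, ?_⟩, ?_⟩
  · obtain ⟨t, ht⟩ := hds
    rw [← pow_mul, ht, show (p - 1) * t * p ^ e = (p ^ e * (p - 1)) * t from by ring,
      ← Nat.totient_prime_pow_succ hp.out, pow_mul, ZMod.pow_totient, one_pow]
  · have h1 := isConj_iterate hk s
    rw [has] at h1
    have h2 : ((ZMod.unitOfCoprime k hcop ^ s : (ZMod (p ^ (e + 1)))ˣ) : ZMod (p ^ (e + 1))) = ((k ^ s : ℕ) : ZMod (p ^ (e + 1))) := by
      rw [Units.val_pow_eq_pow_val, ZMod.coe_unitOfCoprime, Nat.cast_pow]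
    rw [h2, ZMod.val_natCast, ← hy, pow_mod_orderOf]
    exact h1

end group

end Cfsg.Agent.H95.PQ
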